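import Cfsg.Agent.Lib.Helper35.J1P1045.PData

set_option Elab.async false

namespace Cfsg.Agent.Lib.Helper35.J1P1045

open Cfsg.Agent.Lib.Helper35

theorem rc0 : allBelow (fun k => fr (Nat.add 0 k)) 1045 = true := by decide +kernel
theorem ru0 : ∀ i, i < 1045 → fr i = true := below_step fr 0 1045 1045 (below_zero fr) rc0 rfl
theorem c0c0 : allBelow (fun k => fc0 (Nat.add 0 k)) 1045 = true := by decide +kernel
theorem c0u0 : ∀ i, i < 1045 → fc0 i = true := below_step fc0 0 1045 1045 (below_zero fc0) c0c0 rfl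
theorem c1c0 : allBelow (fun k => fc1 (Nat.add 0 k)) 1045 = true := by decide +kernel
theorem c1u0 : ∀ i, i < 1045 → fc1 i = true := below_step fc1 0 1045 1045 (below_zero fc1) c1c0 rfl
theorem c2c0 : allBelow (fun k => fc2 (Nat.add 0 k)) 1045 = true := by decide +kernel
theorem c2u0 : ∀ i, i < 1045 → fc2 i = true := below_step fc2 0 1045 1045 (below_zero fc2) c2c0 rfl
theorem tc0 : allBelow (fun k => ft (Nat.add (Nat.succ 0) k)) 1044 = true := by decide +kernel
theorem tu0 : ∀ v, 1 ≤ v → v ≤ 1044 → ft v = true := slots_step ft 0 1044 1044 (slots_zero ft) tc0 rfl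
theorem oc0 : allBelow (fun k => fo (Nat.add 0 k)) 1045 = true := by decide +kernel
theorem ou0 : ∀ i, i < 1045 → fo i = true := below_step fo 0 1045 1045 (below_zero fo) oc0 rfl
theorem l0z : countBelow fl0 0 = 0 := rfl
theorem l0k0 : countBelow (fun k => fl0 (Nat.add 0 k)) 1045 = 1 := by decide +kernel
theorem l0n0 : countBelow fl0 1045 = 1 := countBelow_step fl0 0 1045 1045 0 1 1 l0z l0k0 rfl rfl
theorem l1z : countBelow fl1 0 = 0 := rfl
theorem l1k0 : countBelow (fun k => fl1 (Nat.add 0 k)) 1045 = 168 := by decide +kernel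
theorem l1n0 : countBelow fl1 1045 = 168 := countBelow_step fl1 0 1045 1045 0 168 168 l1z l1k0 rfl rfl
theorem l2z : countBelow fl2 0 = 0 := rfl
theorem l2k0 : countBelow (fun k => fl2 (Nat.add 0 k)) 1045 = 168 := by decide +kernel
theorem l2n0 : countBelow fl2 1045 = 168 := countBelow_step fl2 0 1045 1045 0 168 168 l2z l2k0 rfl rfl
theorem l3z : countBelow fl3 0 = 0 := rfl
theorem l3k0 : countBelow (fun k => fl3 (Nat.add 0 k)) 1045 = 168 := by decide +kernel
theorem l3n0 : countBelow fl3 1045 = 168 := countBelow_step fl3 0 1045 1045 0 168 168 l3z l3k0 rfl rfl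
theorem l4z : countBelow fl4 0 = 0 := rfl
theorem l4k0 : countBelow (fun k => fl4 (Nat.add 0 k)) 1045 = 168 := by decide +kernel
theorem l4n0 : countBelow fl4 1045 = 168 := countBelow_step fl4 0 1045 1045 0 168 168 l4z l4k0 rfl rfl
theorem l5z : countBelow fl5 0 = 0 := rfl
theorem l5k0 : countBelow (fun k => fl5 (Nat.add 0 k)) 1045 = 56 := by decide +kernel
theorem l5n0 : countBelow fl5 1045 = 56 := countBelow_step fl5 0 1045 1045 0 56 56 l5z l5k0 rfl rfl
theorem l6z : countBelow fl6 0 = 0 := rfl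
theorem l6k0 : countBelow (fun k => fl6 (Nat.add 0 k)) 1045 = 8 := by decide +kernel
theorem l6n0 : countBelow fl6 1045 = 8 := countBelow_step fl6 0 1045 1045 0 8 8 l6z l6k0 rfl rfl
theorem l7z : countBelow fl7 0 = 0 := rfl
theorem l7k0 : countBelow (fun k => fl7 (Nat.add 0 k)) 1045 = 56 := by decide +kernel
theorem l7n0 : countBelow fl7 1045 = 56 := countBelow_step fl7 0 1045 1045 0 56 56 l7z l7k0 rfl rfl
theorem l8z : countBelow fl8 0 = 0 := rfl
theorem l8k0 : countBelow (fun k => fl8 (Nat.add 0 k)) 1045 = 168 := by decide +kernel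
theorem l8n0 : countBelow fl8 1045 = 168 := countBelow_step fl8 0 1045 1045 0 168 168 l8z l8k0 rfl rfl
theorem l9z : countBelow fl9 0 = 0 := rfl
theorem l9k0 : countBelow (fun k => fl9 (Nat.add 0 k)) 1045 = 28 := by decide +kernel
theorem l9n0 : countBelow fl9 1045 = 28 := countBelow_step fl9 0 1045 1045 0 28 28 l9z l9k0 rfl rfl
theorem l10z : countBelow fl10 0 = 0 := rfl
theorem l10k0 : countBelow (fun k => fl10 (Nat.add 0 k)) 1045 = 56 := by decide +kernel
theorem l10n0 : countBelow fl10 1045 = 56 := countBelow_step fl10 0 1045 1045 0 56 56 l10z l10k0 rfl rfl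

end Cfsg.Agent.Lib.Helper35.J1P1045
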